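import Mathlib
import Cfsg.Agent.Lib.Co2Rec.L1

/-!
# Representatives, the Sylow subgroup `T0`, and the interfaces for fusion and for the twisting elements
-/

set_option autoImplicit false
set_option maxRecDepth 100000
set_option Elab.async false

namespace CfsgLib.Co2Rec

open CfsgLib.Comput CfsgLib.Amalg CfsgLib.Sp62 Subgroup

/-- the involution `ac 32` over a transvection -/
noncomputable abbrev s0 : L0 := g0 2

/-- the involution `z0 * g0 63` over a short root element -/
noncomputable abbrev xb : L0 := ac 65

/-- an involution that is not conjugate into `A0` -/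
noncomputable def eD : L0 := g0 2 * g0 4 * g0 6

theorem ac_one : ac 1 = z0 := (ac_pow (j := 0) (by omega)).trans (ev_letter g0 (m := 77) (by omega))

theorem ac_32 : ac 32 = s0 := (ac_pow (j := 5) (by omega)).trans (ev_letter g0 (m := 2) (by omega))

theorem xb_eq : xb = ev g0 0x4e40 := by rw [← evL_one]; exact mod0.eq (by decide +kernel)

theorem eD_eq : eD = ev g0 0x030507 := by
  rw [eD, ← ev_letter g0 (m := 2) (by omega), ← ev_letter g0 (m := 4) (by omega), ← ev_letter g0 (m := 6) (by omega),
    ← evL_three, ← evL_one]
  exact mod0.eq (by decide +kernel)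

/-- the 77 elements of `A0` that are fused with `z0` -/
def OM : ℕ := 0x28000042008800120000000000110012000000000000000041000042018080020000000000000000200120020810800200000000000000004008200201010102000000000808010200000000000000002080040200000000401004020000000000000056000000000000a00600000000000005066999a55500000002

/-- the 330 elements of `A0` that are products of two elements of `OM` in 14 ways -/
def M14 : ℕ := 0xaa665a69140000810044002196aa5a990022002196555a9955665a69820000810240400195a69aa9a6656aa910021001042040019a569aa9566a6aa98004100102020201956559a9040402019a6a59a9a6a656a910400801565656a98020080196665a55000000a99666aaa500005009966655a500000a0900000000fffffffc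

/-- the class of `ac i`: `0` (1 element), `1` (77), `2` (330), `3` (616) -/
def cls (i : ℕ) : ℕ := if i = 0 then 0 else if OM.testBit i then 1 else if M14.testBit i then 2 else 3

/-- representatives of the orbits of the normaliser of `A0` in `L0`: `1, z, f, a1, a2, b2, b1, c, d1, d2` -/
def repsA : List ℕ := [0, 1, 2, 32, 33, 64, 65, 68, 96, 97]

/-- the fusion of involutions -/
structure Fus {G : Type*} [Group G] (φ : L0 →* G) : Prop where
  cls_eq : ∀ i < 1024, ∀ j < 1024, IsConj (φ (ac i)) (φ (ac j)) → cls i = cls j
  orb : ∀ i < 1024, ∀ j < 1024, cls i = cls j →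
    ∃ n ∈ normalizer (A0.map φ : Set G), n * φ (ac i) * n⁻¹ = φ (ac j)
  ne : ¬ IsConj (φ z0) (φ eD)

/-- conjugation by `M` maps the first word of each pair to the second -/
def Twist {G : Type*} [Group G] (φ : L0 →* G) (M : G) (l : List (ℕ × ℕ)) : Prop :=
  ∀ p ∈ l, M * φ (ev g0 p.1) * M⁻¹ = φ (ev g0 p.2)

/-- generators of the centraliser of `s0` and their images under an element that swaps `z0` and `s0` -/
def alK : List (ℕ × ℕ) := [(78, 3), (70, 0xd2303), (72, 0x4041), (74, 0x3c1403), (76, 0x4344), (3, 78), (64, 0x504c4e),
  (65, 0x464c4e), (67, 0x485b4e), (68, 0x484a4e), (14, 0x4e3b3a07), (20, 0x4a052221), (26, 0x4e35063b),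
  (35, 0x46070205), (28, 0x4e3b2321)]

/-- generators of the normaliser of `A0` in the centraliser of `xb` and their images under an element that swaps
`z0` and `xb` -/
def alB : List (ℕ × ℕ) := [(78, 0x4e40), (70, 70), (72, 0x483f02), (74, 74), (76, 0x4c2232), (3, 3), (64, 64), (65, 65),
  (67, 67), (68, 0xe3b), (2, 63), (5, 5), (7, 28), (27, 27), (71, 0x474a4e3f1c)]

/-- the remaining generator of the centraliser of `xb` -/
def alJ : List (ℕ × ℕ) := [(0x13705, 0x1824)]

/-- a Sylow 2-subgroup -/
noncomputable def T0 : Subgroup L0 := SS.comap F0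

theorem card_T0 : Nat.card T0 = 2 ^ 18 := by
  have h1 := T0.card_mul_index
  have h2 := SS.card_mul_index
  rw [T0, index_comap_of_surjective _ F0_surj, card_L0] at h1
  rw [card_SS, card_Sp] at h2
  rw [show SS.index = 2835 by omega] at h1
  rw [T0]; omega

theorem Q0_le_T0 : Q0 ≤ T0 := fun x hx => by rw [T0, mem_comap, F0_eq_one.2 hx]; exact SS.one_mem

theorem exists_conj_T0 {K R : Subgroup L0} (hK : T0 ≤ K) (hR : R ≤ K) (hp : IsPGroup 2 R) :
    ∃ l ∈ K, ∀ r ∈ R, l * r * l⁻¹ ∈ T0 :=
  exists_conj_le hK card_T0 (fun h => by
    have := h.trans (Subgroup.card_subgroup_dvd_card K)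
    rw [card_L0] at this
    norm_num at this) hR hp

end CfsgLib.Co2Rec
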