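import Mathlib
import Cfsg.Agent.Lib.Co2Rec.L2

/-!
# The orbits of the normaliser of `A0` in `L0` on `A0`, explicitly
-/

set_option autoImplicit false
set_option maxRecDepth 100000
set_option Elab.async false

namespace CfsgLib.Co2Rec

open CfsgLib.Comput CfsgLib.Amalg CfsgLib.Sp62 Subgroup

namespace OrbA

/-- the linear map with the packed columns `C` -/
noncomputable def lx (C i n : ℕ) : ℕ :=
  Nat.rec 0 (fun j acc => Bool.rec acc (Nat.xor acc (enl 10 1023 C j)) (tb i j)) n

theorem lx_succ (C i n : ℕ) :
    lx C i (n + 1) = if i.testBit n then lx C i n ^^^ en 10 C n else lx C i n := by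
  have e : lx C i (n + 1) = Bool.rec (lx C i n) (Nat.xor (lx C i n) (enl 10 1023 C n)) (tb i n) := rfl
  rw [e, tb_eq, enl_eq (w := 10) (mk := 1023) rfl]
  cases i.testBit n <;> rfl

theorem lx_lt (C i n : ℕ) : lx C i n < 1024 := by
  induction n with
  | zero => exact (by decide : 0 < 1024)
  | succ n ih =>
    rw [lx_succ]
    split_ifs
    exacts [Nat.xor_lt_two_pow (n := 10) ih (en_lt 10 C n), ih]

theorem conj_lx {g : L0} {C : ℕ} (h : ∀ j < 10, g * ac (2 ^ j) * g⁻¹ = ac (en 10 C j)) (i : ℕ) :
    g * ac i * g⁻¹ = ac (lx C i 10) := by
  have key : ∀ n ≤ 10, g * pr (fun j => ev g0 (genA.getD j 0)) n i * g⁻¹ = ac (lx C i n) := fun n hn => by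
    induction n with
    | zero => rw [show lx C i 0 = 0 from rfl, ac_zero]; simp [pr]
    | succ n ih =>
      rw [pr_succ, lx_succ]
      split_ifs
      · rw [ac_xor, ← ih (by omega), ← h n (by omega), ac_pow (by omega)]; group
      · rw [mul_one, ih (by omega)]
  rw [ac_eq]; exact key 10 le_rfl

/-- letters that normalise `A0` -/
def LT : List ℕ := [13, 19, 25, 34, 27, 70, 72, 74, 76, 77]

/-- their matrices on `A0` -/
def CT : List ℕ := [0x80100202600801d06c1703c01, 0x303c020280080080401303401, 0x803a0202e0080100601403c01, 0x80280c03c00801406c0401801, 0x801a0200400801d0280600801, 0x8310b20040088110200400801, 0x8491520c43090100240400801, 0x8490b20c400a0100200500801, 0x83115230490c0100200400c01, 0x8010020040080100200400801]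

theorem conj_LT {k : ℕ} (hk : k < 10) (i : ℕ) :
    g0 (nth 0 LT k) * ac i * (g0 (nth 0 LT k))⁻¹ = ac (lx (nth 0 CT k) i 10) := by
  refine conj_lx (fun j hj => ?_) i
  have h1 : allLt (fun k => allLt (fun j => chk0 ((nth 0 LT k + 1) :: aw (2 ^ j),
    aw (en 10 (nth 0 CT k) j) ++ [nth 0 LT k + 1])) 10) 10 = true := by decide +kernel
  have h2 := mod0.eq (allLt_sound (allLt_sound h1 k hk) j hj)
  have h3 : nth 0 LT k < 100 := (by decide +kernel : ∀ k < 10, nth 0 LT k < 100) k hk
  rw [evL_cons, evL_append, evL_one, ev_letter g0 (by omega)] at h2
  rw [mul_inv_eq_iff_eq_mul]; exact h2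

theorem LT_mem {k : ℕ} (hk : k < 10) : g0 (nth 0 LT k) ∈ normalizer (A0 : Set L0) :=
  mem_normalizer_fintype fun x hx => by
    obtain ⟨i, -, rfl⟩ := ac_surj hx
    rw [conj_LT hk]; exact ac_mem _

/-- the letter that moves an index towards its representative -/
def PA : ℕ := 0x2233333377227777338888883355663373887778652265007208037855335333628525602271771100220722115551222277772200882222222200225566222254334672474444774253276384555344447722778844888844444422556644442244442222442277444422884455664444871477445644524042874455445444534412776622453355874473367886223377222222336677225544888888112211006677776611885511002200220011126608714531186606556411001586115622770400660514550741682765860077660000888877660055888800881100118877336611111155111111111111111111456724336680165513248562111153172633375102663061825536115233331188330066338800005577333333337485446545746643414134551644584411444488660011884444557744004444444444000044661144884455448877446288354466487544304855443648524433000033003311663311775588887733338611570066335761315500861150332200008888880022772277222266552273353338448374542802627422887722338833333333333333337733663355333333280335723536338833386313663388008888444400887700777766665599644526824428625288888888647966998800002200228888001177773366559953052553455125510616646273748999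

/-- the table of the orbits -/
def TY : ℕ := 0x8989898998899889989889899889899877656577777777777777777756777765777777776577657777777777775677658998988989898989989889898998899877777777775677567777777777567765899898899898989898988989899889989898989898899889989889899889899856777756777777777777777756777765777777566577777765777777777777658998989889899889899889898989899889899889988998989889898989898998776577777777775677657777777777657777657777567777657777777777776589988989989898898998898989898998989898899889898998898989898989985677777777776577776577777777776577777756777777567777775677777765899898989889989898988998898989987777657777776577777777567777776589988989988989899898899889898998898998898989988998989889898989987765777765777777777756777777776598989889989898899898988989898998567777777756777777775677777777658998988998899889989889899898989877777777777777777777777756565665899898899889988989898989898998987777777777777777656577777777566589989889988998899898989889899898777777777777777777775656777756654334344334433443343443434343434322222222222222222222222222222210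

/-- one step towards the representative -/
noncomputable def nx (i : ℕ) : ℕ := lx (nth 0 CT (enl 4 15 PA i)) i 10

/-- `n` steps -/
noncomputable def nxs (n : ℕ) : ℕ → ℕ := Nat.rec (fun i => i) (fun _ f i => force (nx i) f) n

theorem nxs_spec (n : ℕ) {i : ℕ} (hi : i < 1024) :
    ∃ l ∈ normalizer (A0 : Set L0), l * ac (nxs n i) * l⁻¹ = ac i := by
  induction n generalizing i with
  | zero => exact ⟨1, one_mem _, by rw [one_mul, inv_one, mul_one]; rfl⟩
  | succ n ih =>
    have e : nxs (n + 1) i = nxs n (nx i) := force_eq _ _
    have hk : enl 4 15 PA i < 10 :=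
      Nat.le_of_ble_eq_true (allLt_sound (by decide +kernel : allLt (fun i => Nat.ble (enl 4 15 PA i + 1) 10) 1024 = true)
        i hi)
    obtain ⟨l, hl, h⟩ := ih (lx_lt (nth 0 CT (enl 4 15 PA i)) i 10)
    refine ⟨(g0 (nth 0 LT (enl 4 15 PA i)))⁻¹ * l, mul_mem (inv_mem (LT_mem hk)) hl, ?_⟩
    rw [e, nx, mul_inv_rev, inv_inv, mul_assoc _ l, mul_assoc, ← mul_assoc (l * _), h, ← conj_LT hk]
    group

end OrbA

/-- the number `k < 10` of the orbit of `ac i`; the representative is `rpA k` -/
noncomputable def tyA (i : ℕ) : ℕ := enl 4 15 OrbA.TY i

/-- the representatives -/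
noncomputable def rpA (k : ℕ) : ℕ := nth 0 repsA k

theorem tyA_lt {i : ℕ} (hi : i < 1024) : tyA i < 10 :=
  Nat.le_of_ble_eq_true (allLt_sound (by decide +kernel : allLt (fun i => Nat.ble (tyA i + 1) 10) 1024 = true) i hi)

theorem rpA_lt {k : ℕ} (hk : k < 10) : rpA k < 1024 := (by decide +kernel : ∀ k < 10, rpA k < 1024) k hk

theorem rpA_mem {k : ℕ} (hk : k < 10) : rpA k ∈ repsA := (by decide +kernel : ∀ k < 10, rpA k ∈ repsA) k hk

theorem tyA_rpA {k : ℕ} (hk : k < 10) : tyA (rpA k) = k := (by decide +kernel : ∀ k < 10, tyA (rpA k) = k) k hk

theorem exists_rpA {r : ℕ} (hr : r ∈ repsA) : ∃ k < 10, rpA k = r :=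
  (by decide +kernel : ∀ r ∈ repsA, ∃ k < 10, rpA k = r) r hr

/-- the explicit form of `orbA` -/
theorem orb_tyA {i : ℕ} (hi : i < 1024) : ∃ l ∈ normalizer (A0 : Set L0), l * ac (rpA (tyA i)) * l⁻¹ = ac i := by
  rw [← Nat.eq_of_beq_eq_true (allLt_sound (by decide +kernel :
    allLt (fun i => Nat.beq (OrbA.nxs 8 i) (rpA (tyA i))) 1024 = true) i hi)]
  exact OrbA.nxs_spec 8 hi

theorem orbA' {i : ℕ} (hi : i < 1024) : ∃ r ∈ repsA, ∃ l ∈ normalizer (A0 : Set L0), l * ac r * l⁻¹ = ac i :=
  ⟨_, rpA_mem (tyA_lt hi), orb_tyA hi⟩

theorem cls_tyA {i : ℕ} (hi : i < 1024) : cls (rpA (tyA i)) = cls i :=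
  Nat.eq_of_beq_eq_true (allLt_sound (by decide +kernel :
    allLt (fun i => Nat.beq (cls (rpA (tyA i))) (cls i)) 1024 = true) i hi)

end CfsgLib.Co2Rec
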