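import Mathlib
import Cfsg.Agent.Lib.Co2Rec.L2
import Cfsg.Agent.Lib.Co2Rec.Typ

/-! Involutions and large elementary abelian subgroups of `L0` (plans/CO2.md, INV). -/

set_option autoImplicit false
set_option maxRecDepth 100000
set_option Elab.async false
set_option synthInstance.maxSize 1024

namespace CfsgLib.Co2Rec

open CfsgLib.Comput CfsgLib.Amalg CfsgLib.Sp62 CfsgLib.ExtraTwo CfsgLib.LargeExtra Subgroup QuadraticMap Typ

namespace Ivl

/-- every involution of the coset `Q0 w` is conjugate to a representative -/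
noncomputable def cosB (w : ℕ) (reps : List ℕ) (wits : List (ℕ × ℕ × ℕ)) : Bool :=
  pcAll st0 (fun idx l x => Bool.rec true (anyL (witB st0 x0 (reps.map fun r => (r, 2 ^ 100 - 1)) idx l) wits)
    (Nat.beq (actL st0 l x) x0)) gsQ 0 [w] (actL st0 [w] x0)

theorem cosB_sound {w : ℕ} {reps : List ℕ} {wits : List (ℕ × ℕ × ℕ)} (h : cosB w reps wits = true) {l : L0}
    (h1 : F0 l = ev gS w) (h2 : l * l = 1) : ∃ r ∈ reps, IsConj (ev g0 r) l := by
  obtain ⟨idx, l', x, e, h3, h4⟩ := pcAll_sound mod0.step gsQ (mod0.st_actL [w]) h (l * (ev g0 w)⁻¹)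
    (nfQ (F0_eq_one.1 (by rw [map_mul, map_inv, h1, F0_ev, mul_inv_cancel])))
  rw [evL_one, inv_mul_cancel_right] at e
  subst e
  rw [(mod0.beq_iff (actL_rel mod0.step l' h3) mod0.one).2 h2] at h4
  obtain ⟨s, -, h5⟩ := anyL_sound h4
  obtain ⟨r, hr, c, -, e⟩ := witB_sound mod0 h5
  obtain ⟨r', hr', rfl⟩ := List.mem_map.1 hr
  exact ⟨r', hr', isConj_iff.2 ⟨_, e⟩⟩

theorem cos_conj {w : ℕ} {reps : List ℕ} {wits : List (ℕ × ℕ × ℕ)} (h : cosB w reps wits = true) {l : L0}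
    (h1 : IsConj (ev gS w) (F0 l)) (h2 : l * l = 1) : ∃ r ∈ reps, IsConj (ev g0 r) l := by
  obtain ⟨k, e⟩ := isConj_iff.1 h1.symm
  obtain ⟨k, rfl⟩ := F0_surj k
  obtain ⟨r, hr, c⟩ := cosB_sound h (l := k * l * k⁻¹) (by rw [map_mul, map_mul, map_inv, e])
    (by rw [conj_mul, h2, mul_one, mul_inv_cancel])
  exact ⟨r, hr, c.trans (isConj_iff.2 ⟨k, rfl⟩).symm⟩

theorem cosA : cosB 3 [3, 0x4e03] [(0, 0, 0), (2, 0, 77), (8, 0, 75), (10, 0, 95), (32, 0, 73), (34, 0, 0x4d49),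
  (40, 1, 0x4b49), (42, 1, 0x5f49), (128, 0, 71), (130, 1, 0x4d47), (136, 0, 0x4b47), (138, 1, 0x5f47),
  (160, 0, 84), (162, 1, 0x544d), (168, 1, 0x544b), (170, 0, 0x5f54), (256, 1, 0), (258, 1, 77), (264, 1, 75),
  (266, 1, 95), (288, 1, 73), (290, 1, 0x4d49), (296, 0, 0x4b49), (298, 0, 0x5f49), (384, 1, 71), (386, 0, 0x4d47),
  (392, 1, 0x4b47), (394, 0, 0x5f47), (416, 1, 84), (418, 0, 0x544d), (424, 0, 0x544b),
  (426, 1, 0x5f54)] = true := by
  decide +kernel

theorem cosBB : cosB 64 [64, 0x4e40, 0x4840] [(0, 0, 0), (2, 2, 39), (4, 2, 0x4111b), (6, 2, 0x121e1b49),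
  (8, 1, 77), (10, 2, 0x2705), (12, 2, 0xa0b1b), (14, 2, 0x18241b49), (32, 2, 0), (34, 2, 34), (40, 2, 95),
  (42, 2, 0x2149), (64, 2, 0x2a2b), (68, 2, 0x91621), (72, 2, 0x91649), (76, 2, 0xa0b2149), (96, 2, 0x83449),
  (102, 2, 0x1d1f21), (104, 2, 0x1719), (110, 2, 0x1372149), (128, 1, 73), (130, 2, 0x1b4b), (132, 2, 0x9161b49),
  (134, 2, 0x1371b), (136, 1, 0x4d49), (138, 2, 0x1b49), (140, 2, 0xf101b49), (142, 2, 0x8341b), (160, 2, 5),
  (162, 2, 0x214b), (168, 2, 0x5f49), (170, 2, 0x214d), (192, 2, 0x262e), (196, 2, 0x4112149), (200, 2, 0x41149),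
  (204, 2, 0xf1021), (224, 2, 0x13749), (230, 2, 0x8342149), (232, 2, 0x121e), (238, 2, 0x171921), (256, 1, 0),
  (258, 2, 0x274b), (260, 2, 0xa0b1b49), (262, 2, 0x18241b), (264, 0, 77), (266, 2, 0x2749), (268, 2, 0x4111b49),
  (270, 2, 0x121e1b), (288, 2, 75), (290, 2, 0x224b), (296, 2, 77), (298, 2, 0x224d), (320, 2, 0x262e49),
  (324, 2, 0xf102149), (328, 2, 0x411), (332, 2, 0x41121), (352, 2, 0x137), (358, 2, 0x17192149),
  (360, 2, 0x121e49), (366, 2, 0x83421), (384, 0, 73), (386, 2, 27), (388, 2, 0xf101b), (390, 2, 0x8341b49),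
  (392, 0, 0x4d49), (394, 2, 0x1b05), (396, 2, 0x9161b), (398, 2, 0x1371b49), (416, 2, 73), (418, 2, 33),
  (424, 2, 69), (426, 2, 0x2249), (448, 2, 0x2a2b49), (452, 2, 0xa0b21), (456, 2, 0x916), (460, 2, 0x9162149),
  (480, 2, 0x834), (486, 2, 0x13721), (488, 2, 0x171949), (494, 2, 0x1d1f2149)] = true := by
  decide +kernel

theorem cosC : cosB 0x340 [0x340, 0x4e0340] [(0, 0, 0), (2, 1, 95), (8, 0, 75), (10, 1, 77), (32, 1, 84),
  (34, 1, 0x5f54), (40, 0, 0x544b), (42, 0, 0x544d), (128, 0, 71), (130, 0, 0x5f47), (136, 0, 0x4b47),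
  (138, 0, 0x4d47), (160, 1, 73), (162, 0, 0x5f49), (168, 0, 0x4b49), (170, 1, 0x4d49), (256, 1, 0), (258, 0, 95),
  (264, 1, 75), (266, 0, 77), (288, 0, 84), (290, 0, 0x5f54), (296, 1, 0x544b), (298, 1, 0x544d), (384, 1, 71),
  (386, 1, 0x5f47), (392, 1, 0x4b47), (394, 1, 0x4d47), (416, 0, 73), (418, 1, 0x5f49), (424, 1, 0x4b49),
  (426, 0, 0x4d49)] = true := by
  decide +kernel

theorem cosD : cosB 0x30507 [0x30507] [(0, 0, 0), (26, 0, 0x5f49), (32, 0, 73), (58, 0, 0x6449), (72, 0, 90),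
  (82, 0, 0x5e49), (104, 0, 92), (114, 0, 94), (128, 0, 71), (154, 0, 99), (160, 0, 84), (186, 0, 96),
  (200, 0, 75), (210, 0, 98), (232, 0, 93), (242, 0, 0x6249), (256, 0, 0x5b49), (282, 0, 100), (288, 0, 91),
  (314, 0, 95), (328, 0, 0x5c49), (338, 0, 97), (360, 0, 0x5a49), (370, 0, 0x6149), (384, 0, 0x4c49),
  (410, 0, 0x6049), (416, 0, 76), (442, 0, 0x6349), (456, 0, 0x5d49), (466, 0, 0x4d49), (488, 0, 0x4b49),
  (498, 0, 77)] = true := by
  decide +kernel

theorem rep_ac : ∀ w ∈ [70, 3, 0x4e03, 64, 0x4e40, 0x4840, 0x340, 0x4e0340], ∃ r ∈ repsA, ac r = ev g0 w :=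
  fun w hw => by
    obtain ⟨r, hr, e⟩ := (by decide +kernel : ∀ w ∈ [70, 3, 0x4e03, 64, 0x4e40, 0x4840, 0x340, 0x4e0340],
      ∃ r ∈ repsA, chk0 (aw r, [w]) = true) w hw
    exact ⟨r, hr, (mod0.eq e).trans (evL_one _ _)⟩

/-- the noncentral involutions of `Q0` are conjugate -/
theorem conj_Q0 {x : L0} (hx : x ∈ Q0) (h : x * x = 1) : x = 1 ∨ x = z0 ∨ IsConj (qL g0 0) x := by
  by_cases e : π0 x = 0
  · exact ((π0_ker hx).1 e).imp_right Or.inl
  obtain ⟨k, e⟩ := Wc.trans_sing e ((co0.sq x hx).2 h)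
  obtain ⟨k, rfl⟩ := F0_surj k
  have h0 := qL_mem (j := 0) (by omega)
  rw [show vb 1 = π0 (qL g0 0) from (π0_qL (j := 0) (by omega)).symm, act0 k _ h0] at e
  refine Or.inr (Or.inr ?_)
  rcases (co0.eq_iff ((inferInstance : Q0.Normal).conj_mem _ h0 k) hx).1 e with rfl | rfl
  · exact isConj_iff.2 ⟨k, rfl⟩
  · refine isConj_iff.2 ⟨k * (qL g0 7)⁻¹, ?_⟩
    calc _ = k * (qL g0 7)⁻¹ * (qL g0 0 * qL g0 7) * k⁻¹ := by group
      _ = _ := by
        rw [rel0.rq.cm 7 (by omega) 0 (by omega), if_pos rfl, mul_assoc _ k⁻¹, comm_z0 k⁻¹]; group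

/-- the linear map on indices with the columns `T` (ten bits each) -/
noncomputable def lin (T i n : ℕ) : ℕ :=
  Nat.rec 0 (fun j r => Bool.rec r (Nat.xor r (enl 10 1023 T j)) (i.testBit j)) n

theorem lin_succ (T i n : ℕ) : lin T i (n + 1) = if i.testBit n then lin T i n ^^^ en 10 T n else lin T i n := by
  change (Bool.rec (lin T i n) (Nat.xor (lin T i n) (enl 10 1023 T n)) (i.testBit n) : ℕ) = _
  rw [enl_eq (w := 10) (mk := 1023) rfl]
  cases i.testBit n <;> rfl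

theorem lin_lt (T i n : ℕ) : lin T i n < 1024 := by
  induction n with
  | zero => exact Nat.zero_lt_succ _
  | succ n ih =>
    rw [lin_succ]
    split_ifs
    exacts [Nat.xor_lt_two_pow (n := 10) ih (en_lt 10 T n), ih]

/-- a homomorphism on `A0` given on the basis -/
theorem map_ac {H : Type*} [Group H] {f f' : L0 →* H} {T : ℕ} (h : ∀ j < 10, f (ac (2 ^ j)) = f' (ac (en 10 T j)))
    (i : ℕ) : f (ac i) = f' (ac (lin T i 10)) := by
  rw [ac_eq]
  suffices ∀ n ≤ 10, f (pr (fun j => ev g0 (genA.getD j 0)) n i) = f' (ac (lin T i n)) from this 10 le_rfl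
  intro n hn
  induction n with
  | zero => exact f.map_one.trans (by rw [show lin T i 0 = 0 from rfl, ac_zero, map_one])
  | succ n ih =>
    rw [pr_succ, lin_succ, map_mul, ih (by omega)]
    split_ifs
    · rw [ac_xor, map_mul, ← h n hn, ac_pow hn]
    · rw [map_one, mul_one]

/-- the word `w` acts on `A0` with the columns `T` -/
noncomputable def linB (w T : ℕ) : Bool := allLt (fun j => chk0 (w :: aw (2 ^ j), aw (en 10 T j) ++ [w])) 10

theorem linB_sound {w T : ℕ} (h : linB w T = true) (i : ℕ) : ev g0 w * ac i * (ev g0 w)⁻¹ = ac (lin T i 10) :=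
  map_ac (f := (MulAut.conj (ev g0 w)).toMonoidHom) (f' := MonoidHom.id _) (fun j hj => by
    have := mod0.eq (allLt_sound h j hj)
    rw [evL_cons, evL_append, evL_one] at this
    exact mul_inv_eq_iff_eq_mul.2 this) i

theorem linB_norm {w T : ℕ} (h : linB w T = true) : ev g0 w ∈ normalizer (A0 : Set L0) :=
  mem_normalizer_fintype fun a ha => by
    obtain ⟨i, -, rfl⟩ := ac_surj ha
    rw [linB_sound h]; exact ac_mem _

/-- generators of the normaliser of `A0` modulo `A0`, with their columns -/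
def tabA : List (ℕ × ℕ) := [(14, 0x80100202600801d06c1703c01), (20, 0x303c020280080080401303401),
  (26, 0x803a0202e0080100601403c01), (35, 0x80280c03c00801406c0401801), (28, 0x801a0200400801d0280600801),
  (71, 0x8310b20040088110200400801), (73, 0x8491520c43090100240400801), (75, 0x8490b20c400a0100200500801),
  (77, 0x83115230490c0100200400c01)]

theorem tabA_ok : allL (fun p => linB p.1 p.2) tabA = true := by decide +kernel

/-- a height function on the orbits -/
def htA : ℕ := 0x333322333333223322223333222222112222223266323365336665432221221143664465445544556644664454445533445544445544444444445544444444334455345533333333445544543233332233444433443344333333444433333322555555555555555555555555555555445566665567554576775555775565664433342222222144322222443343443211333322223333222222223322333333112233332233223322222233333333331122335655665512223322655466553211664522221222556522226555556622113333222233332222222233332222331144444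4554444444444444444444444334434665556554444444454655566443333454433235544333355433333554422334444333333333333333333443333224355446644544465554465445544663344444444445544554444444444554433444444444455445544444444445544335544564344554465446644546644553333444433443333333333443344333322335534335533234444333354334455223333334444333333443333333333332244344444555555543333323333333322666666666666666666666666666666556666888878875666666677777776665522332211223333222233221111221100554545445555444322122211111011003322222222222211222222112211110032562332344334541212544321321000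

theorem htA_ok : allLt (fun i => anyL (Nat.beq i) repsA ||
    anyL (fun p => Nat.blt (enl 4 15 htA (lin p.2 i 10)) (enl 4 15 htA i)) tabA) 1024 = true := by decide +kernel

/-- the elements of `SS` with square `1` -/
def i144 : List ℕ := [0, 69, 68, 67, 0x4543, 0x4443, 7, 0x4407, 66, 0x4542, 0x742, 65, 0x4441, 0x4341, 0x444341,
  0x741, 0x440741, 0x4241, 0x45434241, 0x74241, 5, 0x4505, 0x4305, 0x454305, 0x705, 0x4205, 0x454205, 0x74205,
  0x4443074205, 0x4105, 0x434105, 0x74105, 0x424105, 0x4543424105, 0x7424105, 0x444307424105, 3, 0x4503, 0x4403,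
  0x4303, 0x454303, 0x444303, 0x703, 0x440703, 0x4203, 0x454203, 0x74203, 0x4103, 0x444103, 0x434103, 0x44434103,
  0x74103, 0x44074103, 0x424103, 0x4543424103, 0x7424103, 0x503, 0x450503, 0x430503, 0x45430503, 0x70503, 0x420503,
  0x45420503, 0x7420503, 0x444307420503, 0x410503, 0x43410503, 0x7410503, 0x42410503, 0x454342410503, 0x742410503,
  0x44430742410503, 64, 0x4540, 0x4440, 0x4340, 0x454340, 0x444340, 0x740, 0x440740, 0x4240, 0x454240, 0x74240,
  0x4140, 0x444140, 0x434140, 0x44434140, 0x74140, 0x44074140, 0x424140, 0x4543424140, 0x7424140, 0x540, 0x450540,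
  0x430540, 0x45430540, 0x70540, 0x420540, 0x45420540, 0x7420540, 0x444307420540, 0x410540, 0x43410540, 0x7410540,
  0x42410540, 0x454342410540, 0x742410540, 0x44430742410540, 0x340, 0x450340, 0x440340, 0x430340, 0x45430340,
  0x44430340, 0x70340, 0x44070340, 0x420340, 0x45420340, 0x7420340, 0x410340, 0x44410340, 0x43410340, 0x4443410340,
  0x7410340, 0x4407410340, 0x42410340, 0x454342410340, 0x742410340, 0x50340, 0x45050340, 0x43050340, 0x4543050340,
  0x7050340, 0x42050340, 0x4542050340, 0x742050340, 0x44430742050340, 0x41050340, 0x4341050340, 0x741050340,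
  0x4241050340, 0x45434241050340, 0x74241050340, 0x4443074241050340]

theorem sq_SS {g : Sp} (hg : g ∈ SS) (h : g * g = 1) : ∃ w ∈ i144, g = ev gS w := by
  have k : pcAll stV (fun _ l x => Bool.rec true (anyL (fun w => tst stV xV x [] [w]) i144) (tst stV xV x l []))
    gsS 0 [] xV = true := by decide +kernel
  obtain ⟨_, l, x, rfl, hx, h1⟩ := pcAll_forall modV.step modV.one k (nfS hg)
  rw [(modV.tst_iff hx l []).2 h] at h1
  simpa only [anyL_iff, modV.tst_iff hx, evL_nil, evL_one, one_mul] using h1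

/-- the number of elements of `i144` that fix the vectors of the list -/
noncomputable def cnt (s : List ℕ) : ℕ :=
  (i144.filter fun w => allL (fun c => Nat.beq (act PV.pstep w c) c) s).length

theorem card_le_cnt {E : Subgroup Sp} (hE : E ≤ SS) (h2 : ∀ g ∈ E, g * g = 1) {s : List ℕ} (hs : ∀ c ∈ s, c < 256)
    (h : ∀ g ∈ E, ∀ c ∈ s, rho g (vb c) = vb c) : Nat.card E ≤ cnt s := by
  rw [cnt, ← List.length_map (ev gS)]
  refine card_le_length (E := (E : Set Sp)) (Set.injOn_id _) fun g hg => ?_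
  obtain ⟨w, hw, rfl⟩ := sq_SS (hE hg) (h2 g hg)
  refine List.mem_map_of_mem (List.mem_filter.2 ⟨hw, allL_complete fun c hc => Nat.beq_eq ▸ ?_⟩)
  exact vb_inj _ (smul_vb [w] (hs c hc)).1 _ (hs c hc) ((Wc.rho_vb w (hs c hc)).symm.trans (h _ hg c hc))

theorem cnt_one : ∀ c < 256, QM.testBit c = false → (128 ≤ cnt [c] → c ∈ [0, 1]) ∧
    (64 ≤ cnt [c] → c ∈ [0, 1, 4, 5, 16, 17, 20, 21]) ∧ (32 ≤ cnt [c] → c &&& 0xe8 = 0 ∨ c &&& 0xaa = 0) := by
  decide +kernel

theorem mem_of_card {U : Submodule (ZMod 2) V} {l : List ℕ} (hU : ∀ c < 256, vb c ∈ U → c ∈ l)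
    (h : l.length ≤ Nat.card U) (c : ℕ) (hc : c ∈ l) : vb c ∈ U := by
  by_contra e
  have := card_le_length (E := (U : Set V)) (l := (l.erase c).map vb) (Set.injOn_id _) fun v hv => by
    obtain ⟨i, hi, rfl⟩ := vb_surj v
    exact List.mem_map_of_mem ((List.mem_erase_of_ne fun e' : i = c => e (e' ▸ hv)).2 (hU i hi hv))
  rw [List.length_map, List.length_erase_of_mem hc] at this
  have := List.length_pos_of_mem hc
  change Nat.card U ≤ _ at *
  omega

theorem core {U : Submodule (ZMod 2) V} {E : Subgroup Sp} (hE : E ≤ SS) (h2 : ∀ g ∈ E, g * g = 1)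
    (hq : ∀ u ∈ U, qS u = 0) (hf : ∀ g ∈ E, ∀ u ∈ U, rho g u = u) (h16 : Nat.card U ≤ 16)
    (hc : 512 ≤ Nat.card U * Nat.card E) : ∀ c ∈ [1, 4, 16, 64], vb c ∈ U := by
  have k : ∀ s : List ℕ, (∀ c ∈ s, c < 256) → (∀ c ∈ s, vb c ∈ U) → Nat.card E ≤ cnt s := fun s h1 h3 =>
    card_le_cnt hE h2 h1 fun g hg c hc => hf g hg _ (h3 c hc)
  have k1 := fun c hc (h : vb c ∈ U) => And.intro (k [c] (by simpa using hc) (by simpa using h)) (cnt_one c hc (by
    have := hq _ h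
    rw [qM c hc] at this
    revert this; cases QM.testBit c <;> simp))
  have k0 := (k [] (by simp) (by simp)).trans (by decide +kernel : cnt [] ≤ 144)
  obtain ⟨n, hn⟩ : ∃ n, Nat.card U = 2 ^ n := ⟨_, by rw [Module.natCard_eq_pow_finrank (K := ZMod 2), Nat.card_zmod]⟩
  have hn4 : n ≤ 4 := (Nat.pow_le_pow_iff_right (by norm_num)).1 (hn.ge.trans h16)
  rw [hn] at hc
  interval_cases n
  · omega
  · omega
  · have := card_le_length (E := (U : Set V)) (l := [vb 0, vb 1]) (Set.injOn_id _) fun v hv => by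
      obtain ⟨i, hi, rfl⟩ := vb_surj v
      exact List.mem_map_of_mem (f := vb) ((k1 i hi hv).2.1 ((k1 i hi hv).1.trans' (by omega)))
    exact absurd (hn.ge.trans this) (by decide)
  · have := mem_of_card (l := [0, 1, 4, 5, 16, 17, 20, 21])
      (fun i hi hv => (k1 i hi hv).2.2.1 ((k1 i hi hv).1.trans' (by omega))) hn.ge
    have := (k [1, 4, 16] (by decide) fun c hc => this c (by revert c; decide)).trans
      (by decide +kernel : cnt [1, 4, 16] ≤ 40)
    omega
  · have k2 := fun i hi hv => (k1 i hi hv).2.2.2 ((k1 i hi hv).1.trans' (by omega))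
    by_cases e : ∃ i < 256, vb i ∈ U ∧ i &&& 0xaa ≠ 0
    · obtain ⟨i, hi, hv, e⟩ := e
      have := mem_of_card (l := [0, 1, 2, 3, 4, 5, 6, 7, 16, 17, 18, 19, 20, 21, 22, 23]) (fun j hj hw =>
        (by decide +kernel : ∀ i < 256, i &&& 0xaa ≠ 0 → i &&& 0xe8 = 0 ∨ i &&& 0xaa = 0 → ∀ j < 256,
          j &&& 0xe8 = 0 ∨ j &&& 0xaa = 0 → (i ^^^ j) &&& 0xe8 = 0 ∨ (i ^^^ j) &&& 0xaa = 0 →
          j ∈ [0, 1, 2, 3, 4, 5, 6, 7, 16, 17, 18, 19, 20, 21, 22, 23]) i hi e (k2 i hi hv) j hj (k2 j hj hw)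
          (k2 _ (Nat.xor_lt_two_pow (n := 8) hi hj) (vb_xor i j ▸ U.add_mem hv hw))) hn.ge
      have := (k [1, 2, 4, 16] (by decide) fun c hc => this c (by revert c; decide)).trans
        (by decide +kernel : cnt [1, 2, 4, 16] ≤ 8)
      omega
    · push Not at e
      exact fun c hc => mem_of_card (l := [0, 1, 4, 5, 16, 17, 20, 21, 64, 65, 68, 69, 80, 81, 84, 85])
        (fun j hj hw => (by decide +kernel : ∀ j < 256, j &&& 0xaa = 0 →
          j ∈ [0, 1, 4, 5, 16, 17, 20, 21, 64, 65, 68, 69, 80, 81, 84, 85]) j hj (e j hj hw)) hn.ge c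
        (by revert c; decide)

theorem comm_of_sq {H : Type*} [Group H] {B : Subgroup H} (h2 : ∀ b ∈ B, b * b = 1) {a b : H} (ha : a ∈ B)
    (hb : b ∈ B) : Commute a b := by
  rw [Commute, SemiconjBy, ← inv_eq_of_mul_eq_one_right (h2 _ (B.mul_mem ha hb)), mul_inv_rev,
    inv_eq_of_mul_eq_one_right (h2 _ ha), inv_eq_of_mul_eq_one_right (h2 _ hb)]

theorem qL_A0 : ∀ j ∈ [0, 2, 4, 6], j < 8 ∧ qL g0 j ∈ A0 := fun j h => by
  obtain ⟨h1, h2⟩ := (by decide : ∀ j ∈ [0, 2, 4, 6], j < 8 ∧ 69 + j + 1 ∈ genA) j h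
  rw [qL, ← ev_letter g0 (by omega)]; exact ⟨h1, ev_mem_cl g0 h2⟩

/-- the centraliser of `s0` in `Q0` lies in `A0` -/
theorem mem_A0_of_s0 {x : L0} (hx : x ∈ Q0) (h : Commute x s0) : x ∈ A0 := mem_A0 fun j hj => by
  have h1 := act0 s0 x hx
  rw [← h.eq, mul_inv_cancel_right, F0_g0, ← ev1 (by omega), π0, ← vb_mod, ← smul_eq,
    (smul_vb _ (Nat.mod_lt _ (by omega))).2] at h1
  refine (co0.polar_iff hx (qL_mem (qL_A0 j hj).1)).1 ?_
  rw [π0_qL (qL_A0 j hj).1, π0, ← vb_mod]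
  exact (by simp only [Wc.polar_eq]; decide +kernel : ∀ c < 256, actL PV.pstep [2 + 1] c = c → ∀ j ∈ [0, 2, 4, 6],
    polar qS (vb c) (vb (2 ^ j)) = 0) _ (Nat.mod_lt _ (by omega))
    (vb_inj _ (smul_vb _ (Nat.mod_lt _ (by omega))).1 _ (Nat.mod_lt _ (by omega)) h1) j hj

end Ivl

open Ivl

theorem invol_L0 {l : L0} (h : l * l = 1) : (∃ r ∈ repsA, IsConj (ac r) l) ∨ IsConj eD l := by
  have k : ∀ {s : List ℕ}, (∃ w ∈ s, IsConj (ev g0 w) l) → s ⊆ [70, 3, 0x4e03, 64, 0x4e40, 0x4840, 0x340, 0x4e0340] →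
      ∃ r ∈ repsA, IsConj (ac r) l := fun ⟨w, hw, e⟩ hs =>
    let ⟨r, h1, h2⟩ := rep_ac w (hs hw)
    ⟨r, h1, h2 ▸ e⟩
  rcases classes (g := F0 l) (by rw [← map_mul, h, map_one]) with e | e | e | e | e
  · rcases conj_Q0 (F0_eq_one.1 e) h with rfl | rfl | e
    · exact Or.inl ⟨0, by decide, by rw [ac_zero]⟩
    · exact Or.inl ⟨1, by decide, by rw [ac_one]⟩
    · exact Or.inl (k ⟨70, List.mem_singleton_self _, by rwa [ev_letter g0 (m := 69) (by omega)]⟩ (by decide))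
  · exact Or.inl (k (cos_conj cosA (by rwa [ev_letter gS (m := 2) (by omega)]) h) (by decide))
  · exact Or.inl (k (cos_conj cosBB (by rwa [C2x.evB]) h) (by decide))
  · refine Or.inl (k (cos_conj cosC (IsConj.trans (isConj_iff.2 ⟨ev gS 0x3701, ?_⟩).symm e) h) (by decide))
    rw [mul_inv_eq_iff_eq_mul, ← C2x.evC, ← evL_two, ← evL_two]
    exact modV.eq (by decide +kernel)
  · obtain ⟨r, hr, c⟩ := cos_conj cosD (by rwa [C2x.evD]) h
    rw [List.mem_singleton.1 hr] at c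
    exact Or.inr (eD_eq ▸ c)

theorem conj_eD {q : L0} (hq : q ∈ Q0) (h : eD * q * (eD * q) = 1) : IsConj eD (eD * q) := by
  obtain ⟨r, hr, c⟩ := cosB_sound cosD (by rw [map_mul, F0_eq_one.2 hq, mul_one, eD_eq, F0_ev]) h
  rw [List.mem_singleton.1 hr] at c
  exact eD_eq ▸ c

theorem orbA {i : ℕ} (hi : i < 1024) : ∃ r ∈ repsA, ∃ l ∈ normalizer (A0 : Set L0), l * ac r * l⁻¹ = ac i := by
  induction hn : enl 4 15 htA i using Nat.strong_induction_on generalizing i with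
  | _ n ih =>
  rcases Bool.or_eq_true _ _ ▸ allLt_sound htA_ok i hi with h | h
  · obtain ⟨r, hr, e⟩ := anyL_sound h
    exact ⟨r, hr, 1, one_mem _, by rw [Nat.eq_of_beq_eq_true e, one_mul, inv_one, mul_one]⟩
  · obtain ⟨p, hp, e⟩ := anyL_sound h
    have k := allL_sound tabA_ok p hp
    obtain ⟨r, hr, l, hl, e⟩ := ih _ (hn ▸ Nat.blt_eq ▸ e) (lin_lt _ _ _) rfl
    refine ⟨r, hr, (ev g0 p.1)⁻¹ * l, mul_mem (inv_mem (linB_norm k)) hl, ?_⟩
    calc _ = (ev g0 p.1)⁻¹ * (l * ac r * l⁻¹) * ev g0 p.1 := by group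
      _ = _ := by rw [e, ← linB_sound k]; group

theorem jtest {B : Subgroup L0} (hB : B ≤ T0) (h2 : ∀ b ∈ B, b * b = 1) (hc : Nat.card B = 1024) : B = A0 := by
  have hq : ∀ u ∈ co0.img B, qS u = 0 := by
    rintro _ ⟨x, hx, hxQ, rfl⟩
    exact (co0.sq x hxQ).2 (h2 x hx)
  have e : co0.img (B ⊓ Q0) = co0.img B := Submodule.ext fun v =>
    ⟨fun ⟨x, h, h'⟩ => ⟨x, h.1, h'⟩, fun ⟨x, h, h'⟩ => ⟨x, ⟨h, h'.1⟩, h'⟩⟩
  have h1 : Nat.card (B ⊓ Q0 : Subgroup L0) ≤ 2 * Nat.card (co0.img B) := by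
    by_cases hz : z0 ∈ B ⊓ Q0
    · rw [co0.card_img inf_le_right hz, e]
    · rw [co0.card_img_of_not_mem inf_le_right hz, e]; omega
  have h3 : Nat.card (B ⊓ Q0 : Subgroup L0) * Nat.card (B.map F0) = 1024 := by
    have := (F0.domRestrict B).ker.card_mul_index
    rwa [index_ker, MonoidHom.domRestrict_range, MonoidHom.ker_domRestrict, ker_F0, ← inf_subgroupOf_right,
      Nat.card_congr (subgroupOfEquivOfLe inf_le_right).toEquiv, inf_comm, hc] at this
  have h4 := card_sq_le_of_comm es0 (A := co0.sub (co0.img B)) (fun x hx => (co0.mem_sub.1 hx).1)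
    (co0.mem_sub.2 ⟨z0_mem, co0.map_z ▸ Submodule.zero_mem _⟩) fun x hx y hy => by
      rw [co0.mem_sub] at hx hy
      refine (co0.polar_iff hx.1 hy.1).1 ?_
      rw [polar, hq _ (Submodule.add_mem _ hx.2 hy.2), hq _ hx.2, hq _ hy.2]; rfl
  rw [co0.card_sub, card_Q0] at h4
  have h5 := core (U := co0.img B) (E := B.map F0) (map_le_iff_le_comap.2 hB)
    (by rintro _ ⟨b, hb, rfl⟩; rw [← map_mul, h2 b hb, map_one]) hq (by
      rintro _ ⟨b, hb, rfl⟩ _ ⟨x, hx, hxQ, rfl⟩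
      rw [act0 b x hxQ, (comm_of_sq h2 hb hx).eq, mul_inv_cancel_right]) (by nlinarith) (by nlinarith)
  refine eq_of_le_of_card_ge (fun b hb => mem_A0 fun j hj => ?_) (by rw [hc, card_A0])
  obtain ⟨x, hx, hxQ, e⟩ := h5 (2 ^ j) (by revert j; decide)
  rw [← π0_qL (qL_A0 j hj).1] at e
  rcases (co0.eq_iff hxQ (qL_mem (qL_A0 j hj).1)).1 e with e | e <;> rw [e]
  exacts [comm_of_sq h2 hb hx, (comm_of_sq h2 hb hx).mul_right (comm_z0 b)]

theorem A0_le_T0 : A0 ≤ T0 := cl_le.2 fun w hw => by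
  rcases (by decide : ∀ w ∈ genA, w ∈ genQ ∨ w ∈ gsS.map Prod.fst) w hw with h | h
  · exact Q0_le_T0 (ev_mem_cl g0 h)
  · rw [T0, mem_comap, F0_ev]; exact ev_mem_cl gS h

theorem Ivl.map_conj_eq {B : Subgroup L0} {l : L0} (hB : ∀ b ∈ B, l * b * l⁻¹ ∈ T0) (h2 : ∀ b ∈ B, b * b = 1)
    (hc : Nat.card B = 1024) : B.map (MulAut.conj l).toMonoidHom = A0 :=
  jtest (map_le_iff_le_comap.2 hB) (by rintro _ ⟨b, hb, rfl⟩; rw [← map_mul, h2 b hb, map_one])
    (by rw [card_map_conj, hc])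

theorem T0_le_norm : T0 ≤ normalizer (A0 : Set L0) := fun _ ht => mem_normalizer_iff_map_conj_eq.2
  (map_conj_eq (fun _ hb => T0.mul_mem (T0.mul_mem ht (A0_le_T0 hb)) (T0.inv_mem ht)) (fun _ => sq_A0) card_A0)

theorem eq_A0 {B : Subgroup L0} (h2 : ∀ b ∈ B, b * b = 1) (hc : Nat.card B = 1024) (hs : ∀ b ∈ B, Commute b s0) :
    B = A0 := by
  obtain ⟨l, -, hl⟩ := exists_conj_T0 le_top (le_top : B ≤ ⊤) (IsPGroup.of_card (n := 10) hc)
  have e := map_conj_eq hl h2 hc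
  have k : ∀ a ∈ A0, l⁻¹ * a * l ∈ B := fun a ha => mem_map_conj.1 (e ▸ ha)
  have n : l⁻¹ ∈ normalizer ((Q0 ⊓ A0 : Subgroup L0) : Set L0) := mem_normalizer_fintype fun x hx => by
    have := (inferInstance : Q0.Normal).conj_mem x hx.1 l⁻¹
    exact ⟨this, mem_A0_of_s0 this (hs _ (by rw [inv_inv]; exact k x hx.2))⟩
  refine eq_of_le_of_card_ge (fun b hb => mem_A0 fun j hj => comm_of_sq h2 hb ?_) (by rw [hc, card_A0])
  have := k _ ((mem_normalizer_iff.1 (inv_mem_iff.1 n) _).1 ⟨qL_mem (qL_A0 j hj).1, (qL_A0 j hj).2⟩).2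
  simpa [mul_assoc] using this

theorem center_T0 {l : L0} (h : ∀ t ∈ T0, Commute l t) : l = 1 ∨ l = z0 :=
  pre0.cent l fun q hq => (h q (Q0_le_T0 hq)).symm

end CfsgLib.Co2Rec
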