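import Mathlib
import Cfsg.Agent.Lib.Co2Rec.Dce
import Cfsg.Agent.Lib.Co2Rec.Inv

/-! The model satisfies the local hypotheses. -/

set_option autoImplicit false
set_option maxRecDepth 100000
set_option Elab.async false

namespace CfsgLib.Co2Rec

open CfsgLib.Comput CfsgLib.Amalg Subgroup MulAction
open scoped Pointwise

theorem ncard_fixX {m F : ℕ} (hm : m < 102) (h : force (PX.tab m) (fun T => allLt (fun i =>
    Bool.rec (Bool.rec true false (tb F i)) (tb F i) (Nat.beq (enl 12 4095 T i) i)) 2300) = true) :
    (fixedBy (Fin 2300) (gX m)).ncard = pop 2300 F := by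
  rw [← smC.ncard_sem, force_eq] at *
  refine congrArg _ (Set.ext fun ω => ?_)
  obtain ⟨p, hp, rfl⟩ := hall_fin 2300 ω
  obtain ⟨h3, h4⟩ := tabsX.img m hm p hp
  have h5 := allLt_sound h p hp
  have h6 : enl 12 4095 (PX.tab m) p = PX.im m p := rfl
  rw [h6, tb_eq] at h5
  rw [mem_fixedBy, h4]
  constructor
  · intro e
    rw [finPt_inj (n := 2300) _ h3 _ hp e, Nat.beq_refl] at h5
    exact ⟨p, hp, h5, rfl⟩
  · rintro ⟨q, hq, h7, e⟩
    obtain rfl := finPt_inj _ hq _ hp e
    cases hb : Nat.beq (PX.im m q) q with
    | true => rw [Nat.eq_of_beq_eq_true hb]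
    | false => rw [hb, h7] at h5; exact absurd h5 (by simp)

theorem not_conj_X : ¬ IsConj (gX 77) (gX 69) := fun h => by
  obtain ⟨c, e⟩ := isConj_iff.1 h
  have h1 := ncard_fixX (m := 77) (F := 0x100002002b00001001010000002a0800000000001020001014108172028800004010000005300011a000540603200800104010108010001440e42084018200000000404095004000b110218421000800000010150060400004a1005c8902000010404040402040014044d0282800020040100005c00040040000040080020a0000000000804400800000000040000102020004102040020010420000004800842001400000221211004110420110810000400000402020001240041020820400020000014004001800002418110041218800002020202000008000002110811002028200000808174812e481210818118000000080000e000080001000400081024022480240011020408100042008840400020440000400281000120041000)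
    (by omega) (by decide +kernel)
  have h2 := ncard_fixX (m := 69) (F := 0x8a0800002020008010000800000004000800000080012000000000000000000000080120080080040000000008000000020008050104000010000000020008000008020020002000000002080808002002000001000800000000080000000000000208080a0100002000000000000801020a0000000001000400802000400040001000000000a0800002000a52000000000010001a08040010002000200800000018800040400801000000403080003080040000000300002300010000000220000000000000800090000900040000200001900029001002004000000000000004000000000000082000180000000801080004000000008004100800000010400000020000020000000000004000100001000)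
    (by omega) (by decide +kernel)
  rw [← e, ← smul_fixedBy, Set.ncard_smul_set, h1] at h2
  exact absurd h2 (by decide +kernel)

theorem sup_top_X {H : Subgroup X} (h : ιX.range ≤ H) (h1 : gX 100 ∈ H) (h2 : gX 101 ∈ H) : H = ⊤ :=
  eq_top_X fun m => by
    rcases (by omega : m < 100 ∨ m = 100 ∨ m = 101 ∨ 102 ≤ m) with a | rfl | rfl | a
    exacts [h ⟨_, ιX_g0 a⟩, h1, h2, tabsX.one m a ▸ H.one_mem]

theorem locX : Loc ιX where
  inj := ιX_inj
  cent c hc := dce (π := MonoidHom.id X) (C := ⊤) (fun _ => rfl) (fun _ _ h => h) trivial trivial rfl rfl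
    (fun _ _ => trivial) (fun _ => twX_J) ((sup_top_X le_sup_left (mem_sup_right (Subgroup.subset_closure (Or.inl rfl)))
      (mem_sup_right (Subgroup.subset_closure (Or.inr rfl)))).ge (mem_top c)) hc
  wc x hx h := by
    have h1 : z0 * z0 = 1 := sq_A0 (ac_one ▸ ac_mem 1)
    obtain ⟨c, e⟩ := isConj_iff.1 h
    rcases Ivl.conj_Q0 hx (ιX_inj (by rw [map_mul, ← e, conj_mul, ← map_mul, h1]; simp)) with rfl | rfl | h2
    · exact absurd (ιX_inj (isConj_one_left.1 (map_one ιX ▸ h) |>.trans (map_one _).symm)) z0_ne
    · rfl
    · refine absurd ?_ not_conj_X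
      rw [← ιX_g0 (m := 77) (by omega), ← ιX_g0 (m := 69) (by omega)]
      exact h.trans (ιX.map_isConj h2).symm
  niso := ⟨ιX s0, isConj_iff.2 ⟨_, twX_K.z_s.1⟩, fun e => absurd (ac_inj 32 (by omega) 1 (by omega)
    (by rw [ac_32, ac_one]; exact ιX_inj e)) (by omega), by rw [← map_mul, comm_z0, map_mul]⟩

end CfsgLib.Co2Rec
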